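import Cfsg.Agent.Lib.Helper44.FW.Defs

/-!
# FW (S3211): package [ISO] — an involution commuting with none of its other conjugates is
isolated in every Sylow 2-subgroup containing it
-/

set_option autoImplicit false

namespace Cfsg.Agent.Lib.Helper15.FW

open Cfsg.Agent.Lib.Helper44.FW

universe u

theorem pkgIso : PkgIso.{u} := by
  intro G _ _ j hj hyp P hjP g htP
  have hj2 : j * j = 1 := by
    have h := pow_orderOf_eq_one j
    rwa [hj, sq] at h
  have hjinv : j⁻¹ = j := inv_eq_of_mul_eq_one_right hj2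
  set t := g * j * g⁻¹ with ht
  have ht2 : t * t = 1 := by
    calc t * t = g * (j * j) * g⁻¹ := by rw [ht]; group
      _ = 1 := by rw [hj2]; group
  have htinv : t⁻¹ = t := inv_eq_of_mul_eq_one_right ht2
  by_contra hne
  have hnc : ¬ (t * j = j * t) := fun h => hne (hyp g h)
  set d := j * t with hd
  have hdP : d ∈ (P : Subgroup G) := mul_mem hjP htP
  obtain ⟨k, hk⟩ := P.2 ⟨d, hdP⟩
  have hdk : d ^ 2 ^ k = 1 := by
    have h := congrArg Subtype.val hk
    simpa using h
  obtain ⟨e, he, heq⟩ := (Nat.dvd_prime_pow Nat.prime_two).mp (orderOf_dvd_of_pow_eq_one hdk)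
  have he2 : 2 ≤ e := by
    by_contra hlt
    have h1 : orderOf d ∣ 2 := by
      rw [heq]
      calc 2 ^ e ∣ 2 ^ 1 := pow_dvd_pow 2 (by omega)
        _ = 2 := by norm_num
    have h2 : d ^ 2 = 1 := orderOf_dvd_iff_pow_eq_one.mp h1
    rw [sq] at h2
    apply hnc
    have h3 : j * t = (j * t)⁻¹ := eq_inv_of_mul_eq_one_left h2
    rw [mul_inv_rev, htinv, hjinv] at h3
    exact h3.symm
  set w := d ^ (2 ^ (e - 2)) with hw
  have hw2 : w * w = d ^ (2 ^ (e - 1)) := by
    rw [hw, ← pow_add]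
    congr 1
    have h1 : e - 1 = (e - 2) + 1 := by omega
    rw [h1, pow_succ]; ring
  have hw2ne : w * w ≠ 1 := by
    rw [hw2]
    exact pow_ne_one_of_lt_orderOf (by positivity)
      (by rw [heq]; exact Nat.pow_lt_pow_right (by norm_num) (by omega))
  have hw4 : w * w * (w * w) = 1 := by
    rw [hw2, ← pow_add]
    have h1 : 2 ^ (e - 1) + 2 ^ (e - 1) = orderOf d := by
      rw [heq]
      have h2 : e = (e - 1) + 1 := by omega
      conv_rhs => rw [h2, pow_succ]
      ring
    rw [h1, pow_orderOf_eq_one]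
  have hww : w * w = w⁻¹ * w⁻¹ := by
    have h1 := eq_inv_of_mul_eq_one_left hw4
    rw [h1, mul_inv_rev]
  have hjdj : j * d * j⁻¹ = d⁻¹ := by
    rw [hd, mul_inv_rev, htinv, hjinv, ← mul_assoc, hj2, one_mul]
  have hjwj : j * w * j⁻¹ = w⁻¹ := by
    rw [hw, ← conj_pow, hjdj, inv_pow]
  have hjw : j * w = w⁻¹ * j := by
    have h1 := hjwj
    rw [hjinv] at h1
    calc j * w = j * w * j * j := by rw [mul_assoc (j * w), hj2, mul_one]
      _ = w⁻¹ * j := by rw [h1]
  have hjw' : j * w⁻¹ = w * j := by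
    calc j * w⁻¹ = w * (w⁻¹ * j) * w⁻¹ := by group
      _ = w * (j * w) * w⁻¹ := by rw [hjw]
      _ = w * j := by group
  have hL : (w * j * w⁻¹) * j = w * w := by
    calc w * j * w⁻¹ * j = w * (j * w⁻¹) * j := by group
      _ = w * (w * j) * j := by rw [hjw']
      _ = w * w * (j * j) := by group
      _ = w * w := by rw [hj2, mul_one]
  have hR : j * (w * j * w⁻¹) = w⁻¹ * w⁻¹ := by
    calc j * (w * j * w⁻¹) = (j * w) * (j * w⁻¹) := by group
      _ = (w⁻¹ * j) * (w * j) := by rw [hjw, hjw']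
      _ = w⁻¹ * (j * w) * j := by group
      _ = w⁻¹ * (w⁻¹ * j) * j := by rw [hjw]
      _ = w⁻¹ * w⁻¹ * (j * j) := by group
      _ = w⁻¹ * w⁻¹ := by rw [hj2, mul_one]
  have hcomm : (w * j * w⁻¹) * j = j * (w * j * w⁻¹) := hL.trans (hww.trans hR.symm)
  have h1 := hyp w hcomm
  have h2 : w * j = j * w := by
    calc w * j = w * j * w⁻¹ * w := by group
      _ = j * w := by rw [h1]
  rw [hjw] at h2
  have h3 : w = w⁻¹ := mul_right_cancel h2
  exact hw2ne (mul_eq_one_iff_eq_inv.mpr h3)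

end Cfsg.Agent.Lib.Helper15.FW
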